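import Mathlib

set_option autoImplicit false

/-! Sylow 2-subgroups of a group `G` with a normal subgroup `N` of index 2 pairwise meet, when a
self-normalizing 2-subgroup `U` of `N` permutes transitively the conjugates of `U` in `N` that
are opposite to it. -/

namespace Cfsg.Agent.Lib.Helper5.SylMeet

open scoped Pointwise

variable {G : Type*} [Group G] [Finite G]

/-- a self-normalizing 2-subgroup of `N` is a maximal 2-subgroup of `N` -/
theorem eq_of_le_of_isPGroup (N U : Subgroup G)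
    (hnorm : ∀ g ∈ N, (∀ u ∈ U, g * u * g⁻¹ ∈ U) → g ∈ U)
    (R : Subgroup G) (hR : IsPGroup 2 R) (hUR : U ≤ R) (hRN : R ≤ N) : R = U := by
  by_contra hne
  have hK : U.subgroupOf R < ⊤ := by
    rw [lt_top_iff_ne_top]
    intro h
    apply hne
    apply le_antisymm _ hUR
    intro r hr
    have : (⟨r, hr⟩ : R) ∈ U.subgroupOf R := by rw [h]; exact Subgroup.mem_top _
    exact Subgroup.mem_subgroupOf.mp this
  have hnil : Group.IsNilpotent R := hR.isNilpotent
  have hlt := Group.normalizerCondition_of_isNilpotent (G := R) (U.subgroupOf R) hK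
  obtain ⟨r, hrn, hrK⟩ := SetLike.exists_of_lt hlt
  apply hrK
  rw [Subgroup.mem_subgroupOf]
  apply hnorm r.1 (hRN r.2)
  intro u hu
  have h1 := (Subgroup.mem_normalizer_iff.mp hrn ⟨u, hUR hu⟩).mp (Subgroup.mem_subgroupOf.mpr hu)
  exact Subgroup.mem_subgroupOf.mp h1

theorem sylow_meet_of_le (N : Subgroup G) [N.Normal] (hidx : N.index = 2)
    (U : Subgroup G) (hUN : U ≤ N)
    (hnorm : ∀ g ∈ N, (∀ u ∈ U, g * u * g⁻¹ ∈ U) → g ∈ U)
    (htrans : ∀ g ∈ N, ∀ h ∈ N, (∀ u ∈ U, g * u * g⁻¹ ∈ U → u = 1) →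
      (∀ u ∈ U, h * u * h⁻¹ ∈ U → u = 1) → ∃ u ∈ U, ∃ u' ∈ U, g = u * h * u')
    (Q : Sylow 2 G) (hUQ : U ≤ (Q : Subgroup G)) (x : G) :
    ∃ y : G, y ≠ 1 ∧ y ∈ (Q : Subgroup G) ∧ x⁻¹ * y * x ∈ (Q : Subgroup G) := by
  -- `Q ∩ N = U`
  have hQN : ∀ y, y ∈ (Q : Subgroup G) → y ∈ N → y ∈ U := by
    intro y hyQ hyN
    have h1 := eq_of_le_of_isPGroup N U hnorm ((Q : Subgroup G) ⊓ N)
      (Q.isPGroup'.to_le inf_le_left) (le_inf hUQ hUN) inf_le_right
    rw [← h1]
    exact ⟨hyQ, hyN⟩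
  -- an element of `Q` outside `N`
  obtain ⟨t, htQ, htN⟩ : ∃ t, t ∈ (Q : Subgroup G) ∧ t ∉ N := by
    by_contra hcon
    have hQleN : (Q : Subgroup G) ≤ N := by
      intro y hy
      by_contra hyN
      exact hcon ⟨y, hy, hyN⟩
    have h1 := Subgroup.index_dvd_of_le hQleN
    rw [hidx] at h1
    exact Q.not_dvd_index h1
  have hmulN : ∀ a b : G, a ∉ N → b ∉ N → a * b ∈ N := by
    intro a b ha hb
    exact (Subgroup.mul_mem_iff_of_index_two hidx).mpr ⟨fun h => absurd h ha, fun h => absurd h hb⟩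
  have hinvN : ∀ a : G, a ∉ N → a⁻¹ ∉ N := fun a ha h => ha (by simpa using N.inv_mem h)
  -- `t` normalizes `U`
  have htU : ∀ u ∈ U, t * u * t⁻¹ ∈ U := by
    intro u hu
    apply hQN
    · exact Q.1.mul_mem (Q.1.mul_mem htQ (hUQ hu)) (Q.1.inv_mem htQ)
    · exact Subgroup.Normal.conj_mem inferInstance u (hUN hu) t
  have htU' : ∀ u ∈ U, t⁻¹ * u * t ∈ U := by
    intro u hu
    apply hQN
    · exact Q.1.mul_mem (Q.1.mul_mem (Q.1.inv_mem htQ) (hUQ hu)) htQ
    · have := Subgroup.Normal.conj_mem (inferInstance : N.Normal) u (hUN hu) t⁻¹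
      simpa using this
  -- elements outside `N` normalizing `U` lie in `Q`
  have hout : ∀ s : G, s ∉ N → (∀ u ∈ U, s * u * s⁻¹ ∈ U) → s ∈ (Q : Subgroup G) := by
    intro s hsN hsU
    have h1 : s * t⁻¹ ∈ N := hmulN s t⁻¹ hsN (hinvN t htN)
    have h2 : s * t⁻¹ ∈ U := by
      apply hnorm _ h1
      intro u hu
      have h3 := hsU _ (htU' u hu)
      have e : s * t⁻¹ * u * (s * t⁻¹)⁻¹ = s * (t⁻¹ * u * t) * s⁻¹ := by group
      rw [e]; exact h3
    have e : s = (s * t⁻¹) * t := by group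
    rw [e]
    exact Q.1.mul_mem (hUQ h2) htQ
  -- the case `x ∈ N`
  have key : ∀ n ∈ N, ∃ y : G, y ≠ 1 ∧ y ∈ (Q : Subgroup G) ∧ n⁻¹ * y * n ∈ (Q : Subgroup G) := by
    intro n hn
    by_cases hopp : ∀ u ∈ U, n * u * n⁻¹ ∈ U → u = 1
    · -- opposite case
      have hopp' : ∀ u ∈ U, (t * n * t⁻¹) * u * (t * n * t⁻¹)⁻¹ ∈ U → u = 1 := by
        intro u hu h
        have h1 := htU' _ h
        have e : t⁻¹ * (t * n * t⁻¹ * u * (t * n * t⁻¹)⁻¹) * t = n * (t⁻¹ * u * t) * n⁻¹ := by group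
        rw [e] at h1
        have h2 := hopp _ (htU' u hu) h1
        have e2 : u = t * (t⁻¹ * u * t) * t⁻¹ := by group
        rw [e2, h2]; group
      have htnN : t * n * t⁻¹ ∈ N := Subgroup.Normal.conj_mem inferInstance n hn t
      obtain ⟨u, hu, u', hu', huu⟩ := htrans _ htnN n hn hopp' hopp
      -- `y = u⁻¹ t`
      refine ⟨u⁻¹ * t, ?_, Q.1.mul_mem (Q.1.inv_mem (hUQ hu)) htQ, ?_⟩
      · intro h
        apply htN
        have : t = u := by
          have := congrArg (fun z => u * z) h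
          simpa using this
        rw [this]; exact hUN hu
      · apply hout
        · intro h
          apply htN
          have h1 : n * (n⁻¹ * (u⁻¹ * t) * n) * n⁻¹ ∈ N := N.mul_mem (N.mul_mem hn h) (N.inv_mem hn)
          have e : n * (n⁻¹ * (u⁻¹ * t) * n) * n⁻¹ = u⁻¹ * t := by group
          rw [e] at h1
          have h2 := N.mul_mem (hUN hu) h1
          simpa using h2
        · intro w hw
          -- `n⁻¹ u⁻¹ t n = u' (t⁻¹ ...)`: use `t n t⁻¹ = u n u'`
          have e : n⁻¹ * (u⁻¹ * t) * n = u' * t := by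
            have h1 : t * n = u * n * u' * t := by
              rw [← huu]; group
            calc n⁻¹ * (u⁻¹ * t) * n = n⁻¹ * u⁻¹ * (t * n) := by group
              _ = n⁻¹ * u⁻¹ * (u * n * u' * t) := by rw [h1]
              _ = u' * t := by group
          rw [e]
          have h3 := htU w hw
          have h4 := U.mul_mem (U.mul_mem hu' h3) (U.inv_mem hu')
          have e2 : u' * t * w * (u' * t)⁻¹ = u' * (t * w * t⁻¹) * u'⁻¹ := by group
          rw [e2]; exact h4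
    · -- `U ∩ n U n⁻¹ ≠ 1`
      push Not at hopp
      obtain ⟨u, hu, hnu, hu1⟩ := hopp
      refine ⟨n * u * n⁻¹, ?_, hUQ hnu, ?_⟩
      · intro h
        apply hu1
        have : u = n⁻¹ * (n * u * n⁻¹) * n := by group
        rw [this, h]; group
      · have e : n⁻¹ * (n * u * n⁻¹) * n = u := by group
        rw [e]; exact hUQ hu
  by_cases hx : x ∈ N
  · exact key x hx
  · -- `x = t n`
    have hn : t⁻¹ * x ∈ N := hmulN _ _ (hinvN t htN) hx
    obtain ⟨y, hy1, hyQ, hyn⟩ := key _ hn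
    refine ⟨t * y * t⁻¹, ?_, Q.1.mul_mem (Q.1.mul_mem htQ hyQ) (Q.1.inv_mem htQ), ?_⟩
    · intro h
      apply hy1
      have : y = t⁻¹ * (t * y * t⁻¹) * t := by group
      rw [this, h]; group
    · have e : x⁻¹ * (t * y * t⁻¹) * x = (t⁻¹ * x)⁻¹ * y * (t⁻¹ * x) := by group
      rw [e]; exact hyn

end Cfsg.Agent.Lib.Helper5.SylMeet
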