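import Mathlib

set_option autoImplicit false

/-! The upper triangular subgroup of `SL_n(F_2)`, and a dimension-count lemma. -/

namespace Cfsg.Agent.Lib.Helper5.SylMeet

open Matrix

theorem zmod2_eq_one (x : ZMod 2) (h : x ≠ 0) : x = 1 := by
  revert x; decide

/-- the upper triangular matrices in `SL_n(F_2)` -/
def upperTri (n : ℕ) : Subgroup (Matrix.SpecialLinearGroup (Fin n) (ZMod 2)) where
  carrier := {A | (A : Matrix (Fin n) (Fin n) (ZMod 2)).IsUpperTriangular}
  mul_mem' := by
    intro A B hA hB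
    show ((A * B : Matrix.SpecialLinearGroup (Fin n) (ZMod 2)) :
      Matrix (Fin n) (Fin n) (ZMod 2)).IsUpperTriangular
    rw [Matrix.SpecialLinearGroup.coe_mul]
    exact Matrix.BlockTriangular.mul hA hB
  one_mem' := by
    show ((1 : Matrix.SpecialLinearGroup (Fin n) (ZMod 2)) :
      Matrix (Fin n) (Fin n) (ZMod 2)).IsUpperTriangular
    rw [Matrix.SpecialLinearGroup.coe_one]
    exact Matrix.blockTriangular_one
  inv_mem' := by
    intro A hA
    show ((A⁻¹ : Matrix.SpecialLinearGroup (Fin n) (ZMod 2)) :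
      Matrix (Fin n) (Fin n) (ZMod 2)).IsUpperTriangular
    have hdet : IsUnit (A : Matrix (Fin n) (Fin n) (ZMod 2)).det := by
      rw [A.2]; exact isUnit_one
    have hinv : Invertible (A : Matrix (Fin n) (Fin n) (ZMod 2)) :=
      Matrix.invertibleOfIsUnitDet _ hdet
    have h1 := Matrix.blockTriangular_inv_of_blockTriangular (M := (A : Matrix (Fin n) (Fin n) (ZMod 2)))
      (b := id) hA
    have h2 : ((A⁻¹ : Matrix.SpecialLinearGroup (Fin n) (ZMod 2)) :
        Matrix (Fin n) (Fin n) (ZMod 2)) = (A : Matrix (Fin n) (Fin n) (ZMod 2))⁻¹ := by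
      rw [Matrix.SpecialLinearGroup.coe_inv, Matrix.inv_def, A.2, Ring.inverse_one, one_smul]
    rw [h2]
    exact h1

theorem mem_upperTri {n : ℕ} (A : Matrix.SpecialLinearGroup (Fin n) (ZMod 2)) :
    A ∈ upperTri n ↔ ∀ i j : Fin n, j < i → (A : Matrix (Fin n) (Fin n) (ZMod 2)) i j = 0 := by
  constructor
  · intro h i j hij
    exact h hij
  · intro h i j hij
    exact h i j hij

/-- upper triangular matrices of determinant one over `F_2` have unit diagonal -/
theorem diag_eq_one {n : ℕ} (A : Matrix (Fin n) (Fin n) (ZMod 2)) (hA : A.IsUpperTriangular)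
    (hdet : A.det = 1) (i : Fin n) : A i i = 1 := by
  apply zmod2_eq_one
  rw [Matrix.det_of_isUpperTriangular hA] at hdet
  intro h
  have : ∏ j : Fin n, A j j = 0 := Finset.prod_eq_zero (Finset.mem_univ i) h
  rw [this] at hdet
  exact zero_ne_one hdet

/-- an upper triangular matrix with unit diagonal has determinant one -/
theorem det_eq_one_of_upper {n : ℕ} (A : Matrix (Fin n) (Fin n) (ZMod 2))
    (hA : A.IsUpperTriangular) (hd : ∀ i, A i i = 1) : A.det = 1 := by
  rw [Matrix.det_of_isUpperTriangular hA]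
  exact Finset.prod_eq_one (fun i _ => hd i)

theorem isPGroup_upperTri (n : ℕ) : IsPGroup 2 (upperTri n) := by
  rcases Nat.eq_zero_or_pos n with rfl | hn
  · intro g
    exact ⟨0, Subsingleton.elim _ _⟩
  · have hne : Nonempty (Fin n) := ⟨⟨0, hn⟩⟩
    intro g
    refine ⟨n, ?_⟩
    apply Subtype.ext
    apply Subtype.ext
    rw [Subgroup.coe_pow, Matrix.SpecialLinearGroup.coe_pow, Subgroup.coe_one,
      Matrix.SpecialLinearGroup.coe_one]
    obtain ⟨A, hA⟩ : ∃ A : Matrix (Fin n) (Fin n) (ZMod 2),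
        A = ((g : Matrix.SpecialLinearGroup (Fin n) (ZMod 2)) :
          Matrix (Fin n) (Fin n) (ZMod 2)) := ⟨_, rfl⟩
    rw [← hA]
    have hU : A.IsUpperTriangular := by rw [hA]; exact g.2
    have hdet : A.det = 1 := by rw [hA]; exact g.1.2
    have hcp : A.charpoly = (Polynomial.X - Polynomial.C (1 : ZMod 2)) ^ n := by
      rw [Matrix.charpoly_of_isUpperTriangular A hU]
      have : ∀ i : Fin n, (Polynomial.X - Polynomial.C (A i i)) =
          (Polynomial.X - Polynomial.C (1 : ZMod 2)) := by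
        intro i; rw [diag_eq_one A hU hdet i]
      rw [Finset.prod_congr rfl (fun i _ => this i), Finset.prod_const, Finset.card_univ,
        Fintype.card_fin]
    have hCH := Matrix.aeval_self_charpoly A
    rw [hcp, map_pow, map_sub, Polynomial.aeval_X, Polynomial.aeval_C, map_one] at hCH
    have hle : n ≤ 2 ^ n := Nat.lt_two_pow_self.le
    have h2 : (A - 1) ^ (2 ^ n) = 0 := by
      obtain ⟨d, hd⟩ := Nat.exists_eq_add_of_le hle
      rw [hd, pow_add, hCH, zero_mul]
    have hchar : CharP (Matrix (Fin n) (Fin n) (ZMod 2)) 2 := inferInstance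
    have h3 := sub_pow_char_pow_of_commute (p := 2) (n := n) (Commute.one_right A)
    rw [h2, one_pow] at h3
    exact (sub_eq_zero.mp h3.symm)

/-- a dimension count: a linear system with fewer equations than unknowns -/
theorem exists_lo_ker {K : Type*} [Field K] {n : ℕ} (M : Matrix (Fin n) (Fin n) K) (s : ℕ)
    (hs : s ≤ n) (I : Finset (Fin n)) (hI : I.card < s) :
    ∃ v : Fin n → K, v ≠ 0 ∧ (∀ j : Fin n, s ≤ j.val → v j = 0) ∧
      ∀ i ∈ I, (M *ᵥ v) i = 0 := by
  let ι : (Fin s → K) →ₗ[K] (Fin n → K) :=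
    { toFun := fun w j => if h : j.val < s then w ⟨j.val, h⟩ else 0
      map_add' := by
        intro w w'
        ext j
        by_cases h : j.val < s <;> simp [h]
      map_smul' := by
        intro c w
        ext j
        by_cases h : j.val < s <;> simp [h] }
  have hι : ∀ w j, ι w j = if h : j.val < s then w ⟨j.val, h⟩ else 0 := fun w j => rfl
  let Φ : (Fin s → K) →ₗ[K] (I → K) :=
    (LinearMap.funLeft K K (fun i : I => (i : Fin n))) ∘ₗ (Matrix.mulVecLin M) ∘ₗ ι
  have hΦ : ∀ w (i : I), Φ w i = (M *ᵥ ι w) i := fun w i => rfl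
  have hker : LinearMap.ker Φ ≠ ⊥ := by
    apply LinearMap.ker_ne_bot_of_finrank_lt
    rw [Module.finrank_fintype_fun_eq_card, Module.finrank_fintype_fun_eq_card, Fintype.card_coe,
      Fintype.card_fin]
    exact hI
  obtain ⟨w, hwk, hw0⟩ := Submodule.exists_mem_ne_zero_of_ne_bot hker
  refine ⟨ι w, ?_, ?_, ?_⟩
  · intro h
    apply hw0
    ext t
    have h1 := congrFun h ⟨t.val, lt_of_lt_of_le t.isLt hs⟩
    rw [hι] at h1
    simp only [t.isLt, dif_pos, Fin.eta, Pi.zero_apply] at h1
    exact h1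
  · intro j hj
    rw [hι, dif_neg (by omega)]
  · intro i hi
    have h1 := LinearMap.mem_ker.mp hwk
    have h2 := congrFun h1 ⟨i, hi⟩
    rw [hΦ] at h2
    exact h2

end Cfsg.Agent.Lib.Helper5.SylMeet
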