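import Mathlib
import Cfsg.Agent.Lib.Helper5.SylMeet.Tri

set_option autoImplicit false

/-! Flags opposite to the standard flag: if `g U g⁻¹` meets `U` trivially (`U` the upper
triangular subgroup of `SL_n(F_2)`) then `g F_k ∩ F_{n-k} = 0` for all `k`. -/

namespace Cfsg.Agent.Lib.Helper5.SylMeet

open Matrix

/-- a linear system with fewer equations than unknowns, with prescribed support -/
theorem exists_supp_ker {K : Type*} [Field K] {n : ℕ} (M : Matrix (Fin n) (Fin n) K)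
    (J I : Finset (Fin n)) (hI : I.card < J.card) :
    ∃ v : Fin n → K, v ≠ 0 ∧ (∀ j : Fin n, j ∉ J → v j = 0) ∧ ∀ i ∈ I, (M *ᵥ v) i = 0 := by
  classical
  let ι : (J → K) →ₗ[K] (Fin n → K) :=
    { toFun := fun w j => if h : j ∈ J then w ⟨j, h⟩ else 0
      map_add' := by
        intro w w'
        ext j
        by_cases h : j ∈ J <;> simp [h]
      map_smul' := by
        intro c w
        ext j
        by_cases h : j ∈ J <;> simp [h] }
  have hι : ∀ w j, ι w j = if h : j ∈ J then w ⟨j, h⟩ else 0 := fun w j => rfl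
  let Φ : (J → K) →ₗ[K] (I → K) :=
    (LinearMap.funLeft K K (fun i : I => (i : Fin n))) ∘ₗ (Matrix.mulVecLin M) ∘ₗ ι
  have hΦ : ∀ w (i : I), Φ w i = (M *ᵥ ι w) i := fun w i => rfl
  have hker : LinearMap.ker Φ ≠ ⊥ := by
    apply LinearMap.ker_ne_bot_of_finrank_lt
    rw [Module.finrank_fintype_fun_eq_card, Module.finrank_fintype_fun_eq_card, Fintype.card_coe,
      Fintype.card_coe]
    exact hI
  obtain ⟨w, hwk, hw0⟩ := Submodule.exists_mem_ne_zero_of_ne_bot hker
  refine ⟨ι w, ?_, ?_, ?_⟩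
  · intro h
    apply hw0
    ext t
    have h1 := congrFun h t.1
    rw [hι, dif_pos t.2] at h1
    exact h1
  · intro j hj
    rw [hι, dif_neg hj]
  · intro i hi
    have h1 := LinearMap.mem_ker.mp hwk
    have h2 := congrFun h1 ⟨i, hi⟩
    rw [hΦ] at h2
    exact h2

/-- `v` lies in the span of the first `k` basis vectors -/
def Lo {n : ℕ} (k : ℕ) (v : Fin n → ZMod 2) : Prop := ∀ j : Fin n, k ≤ j.val → v j = 0

/-- the flag `G F` is opposite to the standard flag `F` -/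
def OppV {n : ℕ} (G : Matrix (Fin n) (Fin n) (ZMod 2)) : Prop :=
  ∀ k : ℕ, k ≤ n → ∀ v : Fin n → ZMod 2, Lo k v → Lo (n - k) (G *ᵥ v) → v = 0

theorem upper_one_add_vecMulVec {n : ℕ} (a φ : Fin n → ZMod 2) (m : ℕ)
    (ha : ∀ i : Fin n, m ≤ i.val → a i = 0) (hφ : ∀ j : Fin n, j.val < m → φ j = 0) :
    (1 + Matrix.vecMulVec a φ).IsUpperTriangular ∧ ∀ i, (1 + Matrix.vecMulVec a φ) i i = 1 := by
  have hz : ∀ i j : Fin n, j ≤ i → a i * φ j = 0 := by
    intro i j hji
    rcases Nat.lt_or_ge i.val m with h | h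
    · rw [hφ j (lt_of_le_of_lt hji h), mul_zero]
    · rw [ha i h, zero_mul]
  constructor
  · intro i j hji
    have hji' : j < i := hji
    rw [Matrix.add_apply, Matrix.one_apply_ne (ne_of_gt hji'), zero_add, Matrix.vecMulVec_apply]
    exact hz i j hji'.le
  · intro i
    rw [Matrix.add_apply, Matrix.one_apply_eq, Matrix.vecMulVec_apply, hz i i le_rfl, add_zero]

theorem oppV_of_inter_trivial {n : ℕ} (g : Matrix.SpecialLinearGroup (Fin n) (ZMod 2))
    (hg : ∀ u ∈ upperTri n, g * u * g⁻¹ ∈ upperTri n → u = 1) :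
    OppV (g : Matrix (Fin n) (Fin n) (ZMod 2)) := by
  intro k hk v hlo hlo'
  by_contra hv0
  obtain ⟨G, hG⟩ : ∃ G : Matrix (Fin n) (Fin n) (ZMod 2),
      G = (g : Matrix (Fin n) (Fin n) (ZMod 2)) := ⟨_, rfl⟩
  obtain ⟨H, hH⟩ : ∃ H : Matrix (Fin n) (Fin n) (ZMod 2),
      H = ((g⁻¹ : Matrix.SpecialLinearGroup (Fin n) (ZMod 2)) :
        Matrix (Fin n) (Fin n) (ZMod 2)) := ⟨_, rfl⟩
  have hGH : G * H = 1 := by
    rw [hG, hH, ← Matrix.SpecialLinearGroup.coe_mul, mul_inv_cancel,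
      Matrix.SpecialLinearGroup.coe_one]
  have hHG : H * G = 1 := by
    rw [hG, hH, ← Matrix.SpecialLinearGroup.coe_mul, inv_mul_cancel,
      Matrix.SpecialLinearGroup.coe_one]
  rw [← hG] at hlo'
  obtain ⟨a, ha⟩ : ∃ a, a = G *ᵥ v := ⟨_, rfl⟩
  rw [← ha] at hlo'
  have hHa : H *ᵥ a = v := by rw [ha, Matrix.mulVec_mulVec, hHG, Matrix.one_mulVec]
  have ha0 : a ≠ 0 := by
    intro h
    apply hv0
    rw [← hHa, h, Matrix.mulVec_zero]
  -- a non-zero coordinate of `v`
  obtain ⟨i0, hi0⟩ : ∃ i0, v i0 ≠ 0 := by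
    by_contra h
    push Not at h
    exact hv0 (funext h)
  have hi0k : i0.val < k := by
    by_contra h
    exact hi0 (hlo i0 (by omega))
  have hn : 0 < n := lt_of_le_of_lt (Nat.zero_le _) i0.isLt
  -- the functional `φ`
  have hnk : n - k < n := by omega
  obtain ⟨φ, hφ0, hφsupp, hφI⟩ := exists_supp_ker Gᵀ (Finset.Ici ⟨n - k, hnk⟩)
    ((Finset.univ.filter (fun i : Fin n => i.val < k)).erase i0) (by
      rw [Finset.card_erase_of_mem (by simp [hi0k]), Fin.card_filter_val_lt, Fin.card_Ici]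
      simp only
      have : min n k = k := min_eq_right hk
      omega)
  have hφlo : ∀ b : Fin n, b.val < n - k → φ b = 0 := by
    intro b hb
    apply hφsupp
    rw [Finset.mem_Ici, Fin.le_def]
    simp only
    omega
  obtain ⟨ψ, hψ⟩ : ∃ ψ, ψ = φ ᵥ* G := ⟨_, rfl⟩
  have hψI : ∀ i : Fin n, i.val < k → i ≠ i0 → ψ i = 0 := by
    intro i hik hii0
    have := hφI i (by simp [hik, hii0])
    rwa [Matrix.mulVec_transpose, ← hψ] at this
  have hdot : ψ ⬝ᵥ v = 0 := by
    rw [hψ, ← Matrix.dotProduct_mulVec, ← ha, dotProduct]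
    apply Finset.sum_eq_zero
    intro b _
    rcases Nat.lt_or_ge b.val (n - k) with h | h
    · rw [hφlo b h, zero_mul]
    · rw [hlo' b h, mul_zero]
  have hψi0 : ψ i0 = 0 := by
    rw [dotProduct, Finset.sum_eq_single i0] at hdot
    · rcases mul_eq_zero.mp hdot with h | h
      · exact h
      · exact absurd h hi0
    · intro i _ hii0
      rcases Nat.lt_or_ge i.val k with h | h
      · rw [hψI i h hii0, zero_mul]
      · rw [hlo i h, mul_zero]
    · intro h
      exact absurd (Finset.mem_univ i0) h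
  have hψlo : ∀ i : Fin n, i.val < k → ψ i = 0 := by
    intro i hik
    by_cases h : i = i0
    · rw [h]; exact hψi0
    · exact hψI i hik h
  -- the transvection `T = 1 + a φᵀ`
  obtain ⟨hTU, hTd⟩ := upper_one_add_vecMulVec a φ (n - k) hlo' hφlo
  obtain ⟨hSU, hSd⟩ := upper_one_add_vecMulVec v ψ k hlo hψlo
  let T : Matrix.SpecialLinearGroup (Fin n) (ZMod 2) :=
    ⟨1 + Matrix.vecMulVec a φ, det_eq_one_of_upper _ hTU hTd⟩
  let S : Matrix.SpecialLinearGroup (Fin n) (ZMod 2) :=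
    ⟨1 + Matrix.vecMulVec v ψ, det_eq_one_of_upper _ hSU hSd⟩
  have hTmem : T ∈ upperTri n := hTU
  have hSmem : S ∈ upperTri n := hSU
  have hconj : g * S * g⁻¹ = T := by
    apply Subtype.ext
    rw [Matrix.SpecialLinearGroup.coe_mul, Matrix.SpecialLinearGroup.coe_mul, ← hG, ← hH]
    show G * (1 + Matrix.vecMulVec v ψ) * H = 1 + Matrix.vecMulVec a φ
    rw [mul_add, add_mul, mul_one, hGH, Matrix.mul_vecMulVec, Matrix.vecMulVec_mul, ← ha, hψ,
      Matrix.vecMul_vecMul, hGH, Matrix.vecMul_one]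
  have hS1 := hg S hSmem (by rw [hconj]; exact hTmem)
  -- but `T ≠ 1`
  obtain ⟨i1, hi1⟩ : ∃ i1, a i1 ≠ 0 := by
    by_contra h
    push Not at h
    exact ha0 (funext h)
  obtain ⟨j1, hj1⟩ : ∃ j1, φ j1 ≠ 0 := by
    by_contra h
    push Not at h
    exact hφ0 (funext h)
  have hT1 : T = 1 := by rw [← hconj, hS1, mul_one, mul_inv_cancel]
  have h1 := congrArg (fun X : Matrix.SpecialLinearGroup (Fin n) (ZMod 2) =>
    (X : Matrix (Fin n) (Fin n) (ZMod 2)) i1 j1) hT1
  simp only [Matrix.SpecialLinearGroup.coe_one] at h1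
  have h2 : (T : Matrix (Fin n) (Fin n) (ZMod 2)) i1 j1 = (1 : Matrix (Fin n) (Fin n) (ZMod 2)) i1 j1
      + a i1 * φ j1 := rfl
  rw [h2] at h1
  have h3 : a i1 * φ j1 = 0 := by
    have := add_left_cancel (h1.trans (add_zero _).symm)
    exact this
  rcases mul_eq_zero.mp h3 with h | h
  · exact hi1 h
  · exact hj1 h

end Cfsg.Agent.Lib.Helper5.SylMeet
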