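import Mathlib
import Cfsg.Agent.Lib.Helper5.SylMeet.Opp

set_option autoImplicit false

/-! The big cell: elements of `SL_n(F_2)` whose flag is opposite to the standard flag form a
single double coset of the upper triangular subgroup. -/

namespace Cfsg.Agent.Lib.Helper5.SylMeet

open Matrix

/-- the reversal matrix -/
def revMat (n : ℕ) : Matrix (Fin n) (Fin n) (ZMod 2) :=
  Matrix.of fun j i => if j = Fin.rev i then 1 else 0

theorem mul_revMat_apply {n : ℕ} (A : Matrix (Fin n) (Fin n) (ZMod 2)) (a i : Fin n) :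
    (A * revMat n) a i = A a (Fin.rev i) := by
  rw [Matrix.mul_apply, Finset.sum_eq_single (Fin.rev i)]
  · simp [revMat]
  · intro j _ hj
    simp [revMat, hj]
  · intro h
    exact absurd (Finset.mem_univ _) h

/-- the columns of the big-cell decomposition -/
theorem exists_col {n : ℕ} (G : Matrix (Fin n) (Fin n) (ZMod 2)) (hG : OppV G) (i : Fin n) :
    ∃ c : Fin n → ZMod 2, Lo (i.val + 1) c ∧ c i = 1 ∧ Lo (n - i.val) (G *ᵥ c) ∧
      (G *ᵥ c) (Fin.rev i) = 1 := by
  obtain ⟨v, hv0, hvsupp, hvI⟩ := exists_supp_ker G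
    (Finset.univ.filter (fun j : Fin n => j.val < i.val + 1))
    ((Finset.univ.filter (fun t : Fin n => t.val < i.val)).image Fin.rev) (by
      refine lt_of_le_of_lt Finset.card_image_le ?_
      rw [Fin.card_filter_val_lt, Fin.card_filter_val_lt]
      have := i.isLt
      have h1 : min n i.val = i.val := min_eq_right (by omega)
      have h2 : min n (i.val + 1) = i.val + 1 := min_eq_right (by omega)
      omega)
  have hlo : Lo (i.val + 1) v := by
    intro j hj
    apply hvsupp
    simp only [Finset.mem_filter, Finset.mem_univ, true_and]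
    omega
  have hlo' : Lo (n - i.val) (G *ᵥ v) := by
    intro a ha
    apply hvI
    rw [Finset.mem_image]
    refine ⟨Fin.rev a, ?_, Fin.rev_rev a⟩
    simp only [Finset.mem_filter, Finset.mem_univ, true_and, Fin.val_rev]
    have := a.isLt
    omega
  refine ⟨v, hlo, ?_, hlo', ?_⟩
  · apply zmod2_eq_one
    intro h
    apply hv0
    apply hG i.val i.isLt.le v _ hlo'
    intro j hj
    rcases Nat.lt_or_ge i.val j.val with h1 | h1
    · exact hlo j h1
    · have : j = i := Fin.ext (by omega)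
      rw [this]; exact h
  · apply zmod2_eq_one
    intro h
    apply hv0
    apply hG (i.val + 1) i.isLt v hlo
    intro a ha
    rcases Nat.lt_or_ge a.val (n - i.val) with h1 | h1
    · have : a = Fin.rev i := by
        apply Fin.ext
        rw [Fin.val_rev]
        omega
      rw [this]; exact h
    · exact hlo' a h1

/-- the big-cell decomposition `G C = U' R` -/
theorem exists_cell {n : ℕ} (g : Matrix.SpecialLinearGroup (Fin n) (ZMod 2))
    (hG : OppV (g : Matrix (Fin n) (Fin n) (ZMod 2))) :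
    ∃ c ∈ upperTri n, ∃ u ∈ upperTri n,
      (g : Matrix (Fin n) (Fin n) (ZMod 2)) * (c : Matrix (Fin n) (Fin n) (ZMod 2)) =
        (u : Matrix (Fin n) (Fin n) (ZMod 2)) * revMat n := by
  choose col h1 h2 h3 h4 using exists_col (g : Matrix (Fin n) (Fin n) (ZMod 2)) hG
  obtain ⟨C, hC⟩ : ∃ C : Matrix (Fin n) (Fin n) (ZMod 2), C = Matrix.of fun a i => col i a :=
    ⟨_, rfl⟩
  obtain ⟨U, hU⟩ : ∃ U : Matrix (Fin n) (Fin n) (ZMod 2),
      U = Matrix.of fun a j => ((g : Matrix (Fin n) (Fin n) (ZMod 2)) *ᵥ col (Fin.rev j)) a :=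
    ⟨_, rfl⟩
  have hCU : C.IsUpperTriangular := by
    intro a i hia
    have hia' : i < a := hia
    rw [hC]
    show col i a = 0
    exact h1 i a (by have : i.val < a.val := hia'; omega)
  have hCd : ∀ i, C i i = 1 := by
    intro i; rw [hC]; exact h2 i
  have hUU : U.IsUpperTriangular := by
    intro a j hja
    have hja' : j < a := hja
    rw [hU]
    show ((g : Matrix (Fin n) (Fin n) (ZMod 2)) *ᵥ col (Fin.rev j)) a = 0
    apply h3 (Fin.rev j) a
    rw [Fin.val_rev]
    have : j.val < a.val := hja'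
    have := a.isLt
    omega
  have hUd : ∀ j, U j j = 1 := by
    intro j
    rw [hU]
    show ((g : Matrix (Fin n) (Fin n) (ZMod 2)) *ᵥ col (Fin.rev j)) j = 1
    have := h4 (Fin.rev j)
    rwa [Fin.rev_rev] at this
  refine ⟨⟨C, det_eq_one_of_upper C hCU hCd⟩, hCU, ⟨U, det_eq_one_of_upper U hUU hUd⟩, hUU, ?_⟩
  ext a i
  show ((g : Matrix (Fin n) (Fin n) (ZMod 2)) * C) a i = (U * revMat n) a i
  rw [mul_revMat_apply, hU, hC]
  show _ = ((g : Matrix (Fin n) (Fin n) (ZMod 2)) *ᵥ col (Fin.rev (Fin.rev i))) a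
  rw [Fin.rev_rev]
  rfl

/-- two opposite elements lie in the same double coset -/
theorem double_coset_of_opp {n : ℕ} (g h : Matrix.SpecialLinearGroup (Fin n) (ZMod 2))
    (hg : ∀ u ∈ upperTri n, g * u * g⁻¹ ∈ upperTri n → u = 1)
    (hh : ∀ u ∈ upperTri n, h * u * h⁻¹ ∈ upperTri n → u = 1) :
    ∃ u ∈ upperTri n, ∃ u' ∈ upperTri n, g = u * h * u' := by
  obtain ⟨cg, hcg, ug, hug, hgeq⟩ := exists_cell g (oppV_of_inter_trivial g hg)
  obtain ⟨ch, hch, uh, huh, hheq⟩ := exists_cell h (oppV_of_inter_trivial h hh)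
  refine ⟨ug * uh⁻¹, (upperTri n).mul_mem hug ((upperTri n).inv_mem huh), ch * cg⁻¹,
    (upperTri n).mul_mem hch ((upperTri n).inv_mem hcg), ?_⟩
  have hR : revMat n = ((uh⁻¹ * h * ch : Matrix.SpecialLinearGroup (Fin n) (ZMod 2)) :
      Matrix (Fin n) (Fin n) (ZMod 2)) := by
    rw [Matrix.SpecialLinearGroup.coe_mul, Matrix.SpecialLinearGroup.coe_mul, mul_assoc, hheq,
      ← mul_assoc, ← Matrix.SpecialLinearGroup.coe_mul, inv_mul_cancel,
      Matrix.SpecialLinearGroup.coe_one, one_mul]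
  have h1 : g * cg = ug * (uh⁻¹ * h * ch) := by
    apply Subtype.ext
    rw [Matrix.SpecialLinearGroup.coe_mul, Matrix.SpecialLinearGroup.coe_mul, hgeq, hR]
  calc g = (g * cg) * cg⁻¹ := by group
    _ = ug * (uh⁻¹ * h * ch) * cg⁻¹ := by rw [h1]
    _ = ug * uh⁻¹ * h * (ch * cg⁻¹) := by group

end Cfsg.Agent.Lib.Helper5.SylMeet
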