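import Mathlib
import Cfsg.Agent.Lib.Helper5.SylMeet.Tri

set_option autoImplicit false

/-! The upper triangular subgroup of `SL_n(F_2)` is self-normalizing. -/

namespace Cfsg.Agent.Lib.Helper5.SylMeet

open Matrix

/-- the entries of `g * single j k 1 * h` -/
theorem mul_single_mul_apply {K : Type*} [Field K] {n : ℕ} (g h : Matrix (Fin n) (Fin n) K)
    (j k a b : Fin n) : (g * Matrix.single j k (1 : K) * h) a b = g a j * h k b := by
  rw [Matrix.mul_apply, Finset.sum_eq_single k]
  · rw [Matrix.mul_single_apply_same, mul_one]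
  · intro y _ hy
    rw [Matrix.mul_single_apply_of_ne (i := j) (j := k) (a := a) (b := y) (hbj := hy) (M := g), zero_mul]
  · intro h'
    exact absurd (Finset.mem_univ k) h'

/-- upper transvections -/
def upTrans {n : ℕ} (j k : Fin n) (hjk : j < k) : Matrix.SpecialLinearGroup (Fin n) (ZMod 2) :=
  ⟨Matrix.transvection j k 1, Matrix.det_transvection_of_ne j k (ne_of_lt hjk) 1⟩

theorem upTrans_mem {n : ℕ} (j k : Fin n) (hjk : j < k) : upTrans j k hjk ∈ upperTri n := by
  rw [mem_upperTri]
  intro i l hli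
  show Matrix.transvection j k (1 : ZMod 2) i l = 0
  rw [Matrix.transvection, Matrix.add_apply, Matrix.one_apply_ne (ne_of_gt hli), zero_add]
  apply Matrix.single_apply_of_ne
  rintro ⟨rfl, rfl⟩
  exact absurd hjk (not_lt.mpr hli.le)

theorem mem_upperTri_of_conj {n : ℕ} (g : Matrix.SpecialLinearGroup (Fin n) (ZMod 2))
    (hg : ∀ u ∈ upperTri n, g * u * g⁻¹ ∈ upperTri n) : g ∈ upperTri n := by
  rw [mem_upperTri]
  intro a j hja
  by_contra hne
  obtain ⟨G, hG⟩ : ∃ G : Matrix (Fin n) (Fin n) (ZMod 2),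
      G = (g : Matrix (Fin n) (Fin n) (ZMod 2)) := ⟨_, rfl⟩
  obtain ⟨H, hH⟩ : ∃ H : Matrix (Fin n) (Fin n) (ZMod 2),
      H = ((g⁻¹ : Matrix.SpecialLinearGroup (Fin n) (ZMod 2)) :
        Matrix (Fin n) (Fin n) (ZMod 2)) := ⟨_, rfl⟩
  have hGH : G * H = 1 := by
    rw [hG, hH, ← Matrix.SpecialLinearGroup.coe_mul, mul_inv_cancel,
      Matrix.SpecialLinearGroup.coe_one]
  rw [← hG] at hne
  -- the rows `k > j` of `H` vanish on the columns `b ≤ a`
  have hzero : ∀ k b : Fin n, j < k → b ≤ a → H k b = 0 := by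
    intro k b hjk hba
    have h1 := hg _ (upTrans_mem j k hjk)
    have h2 : ((g * upTrans j k hjk * g⁻¹ : Matrix.SpecialLinearGroup (Fin n) (ZMod 2)) :
        Matrix (Fin n) (Fin n) (ZMod 2)) = 1 + G * Matrix.single j k 1 * H := by
      rw [Matrix.SpecialLinearGroup.coe_mul, Matrix.SpecialLinearGroup.coe_mul, ← hG, ← hH]
      show G * Matrix.transvection j k (1 : ZMod 2) * H = _
      rw [Matrix.transvection, mul_add, add_mul, mul_one, hGH]
    have h3 : (G * Matrix.single j k (1 : ZMod 2) * H) a b = 0 := by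
      rcases lt_or_eq_of_le hba with hlt | heq
      · have h4 := (mem_upperTri _).mp h1 a b hlt
        rw [h2, Matrix.add_apply, Matrix.one_apply_ne (ne_of_gt hlt), zero_add] at h4
        exact h4
      · subst heq
        have h4 := diag_eq_one _ h1 (g * upTrans j k hjk * g⁻¹).2 b
        rw [h2, Matrix.add_apply, Matrix.one_apply_eq] at h4
        exact add_left_cancel (h4.trans (add_zero (1 : ZMod 2)).symm)
    rw [mul_single_mul_apply] at h3
    rcases mul_eq_zero.mp h3 with h5 | h5
    · exact absurd h5 hne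
    · exact h5
  -- a vector in the kernel of `H`
  obtain ⟨v, hv0, hvlo, hvI⟩ := exists_lo_ker H (a.val + 1) (by have := a.isLt; omega)
    (Finset.Iic j) (by rw [Fin.card_Iic]; have : j.val < a.val := hja; omega)
  have hHv : H *ᵥ v = 0 := by
    ext k
    rw [Pi.zero_apply]
    rcases le_or_gt k j with hkj | hjk
    · exact hvI k (Finset.mem_Iic.mpr hkj)
    · rw [Matrix.mulVec, dotProduct]
      apply Finset.sum_eq_zero
      intro b _
      rcases le_or_gt b a with hba | hab
      · rw [hzero k b hjk hba, zero_mul]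
      · rw [hvlo b (by have : a.val < b.val := hab; omega), mul_zero]
  apply hv0
  have : v = G *ᵥ (H *ᵥ v) := by
    rw [Matrix.mulVec_mulVec, hGH, Matrix.one_mulVec]
  rw [this, hHv, Matrix.mulVec_zero]

end Cfsg.Agent.Lib.Helper5.SylMeet
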