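import Mathlib
import Cfsg.Agent.Lib.Helper5.SylMeet.Abstract
import Cfsg.Agent.Lib.Helper5.SylMeet.Norm
import Cfsg.Agent.Lib.Helper5.SylMeet.Cell

set_option autoImplicit false

/-! Any two Sylow 2-subgroups of a group containing `SL_n(F_2)` as a normal subgroup of index 2
meet non-trivially. -/

namespace Cfsg.Agent.Lib.Helper5.SylMeet

open scoped Pointwise

theorem mem_conj_smul {G : Type*} [Group G] (S : Subgroup G) (a y : G) :
    y ∈ MulAut.conj a • S ↔ a⁻¹ * y * a ∈ S := by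
  rw [Subgroup.mem_pointwise_smul_iff_inv_smul_mem, MulAut.smul_def, ← map_inv,
    MulAut.conj_apply, inv_inv]

theorem sylow_two_meet {G : Type*} [Group G] [Finite G] {n : ℕ} (N : Subgroup G) [N.Normal]
    (e : N ≃* Matrix.SpecialLinearGroup (Fin n) (ZMod 2)) (hidx : N.index = 2)
    (H : Sylow 2 G) (x : G) :
    (H : Subgroup G) ⊓ MulAut.conj x • (H : Subgroup G) ≠ ⊥ := by
  obtain ⟨U, hU⟩ : ∃ U : Subgroup G, U = ((upperTri n).comap e.toMonoidHom).map N.subtype :=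
    ⟨_, rfl⟩
  have hmem : ∀ y : G, y ∈ U ↔ ∃ z : N, e z ∈ upperTri n ∧ (z : G) = y := by
    intro y
    rw [hU, Subgroup.mem_map]
    constructor
    · rintro ⟨z, hz, rfl⟩
      exact ⟨z, hz, rfl⟩
    · rintro ⟨z, hz, rfl⟩
      exact ⟨z, hz, rfl⟩
  have hUN : U ≤ N := by
    intro y hy
    obtain ⟨z, -, rfl⟩ := (hmem y).mp hy
    exact z.2
  have hU2 : IsPGroup 2 U := by
    rw [hU]
    exact ((isPGroup_upperTri n).comap_of_injective e.toMonoidHom e.injective).map N.subtype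
  have hconj : ∀ (g : G) (hg : g ∈ N) (z : N), g * (z : G) * g⁻¹ ∈ U ↔
      e ⟨g, hg⟩ * e z * (e ⟨g, hg⟩)⁻¹ ∈ upperTri n := by
    intro g hg z
    rw [hmem]
    constructor
    · rintro ⟨z', hz', hzz⟩
      have : z' = ⟨g, hg⟩ * z * ⟨g, hg⟩⁻¹ := Subtype.ext hzz
      rw [this, map_mul, map_mul, map_inv] at hz'
      exact hz'
    · intro h
      refine ⟨⟨g, hg⟩ * z * ⟨g, hg⟩⁻¹, ?_, rfl⟩
      rw [map_mul, map_mul, map_inv]
      exact h
  have hnorm : ∀ g ∈ N, (∀ u ∈ U, g * u * g⁻¹ ∈ U) → g ∈ U := by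
    intro g hg h
    rw [hmem]
    refine ⟨⟨g, hg⟩, ?_, rfl⟩
    apply mem_upperTri_of_conj
    intro u' hu'
    have h1 := h (e.symm u' : G) ((hmem _).mpr ⟨e.symm u', by rw [e.apply_symm_apply]; exact hu', rfl⟩)
    have h2 := (hconj g hg (e.symm u')).mp h1
    rwa [e.apply_symm_apply] at h2
  have hopp : ∀ g (hg : g ∈ N), (∀ u ∈ U, g * u * g⁻¹ ∈ U → u = 1) →
      ∀ u' ∈ upperTri n, e ⟨g, hg⟩ * u' * (e ⟨g, hg⟩)⁻¹ ∈ upperTri n → u' = 1 := by
    intro g hg h u' hu' hc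
    have h1 := h (e.symm u' : G) ((hmem _).mpr ⟨e.symm u', by rw [e.apply_symm_apply]; exact hu', rfl⟩)
      ((hconj g hg (e.symm u')).mpr (by rw [e.apply_symm_apply]; exact hc))
    have h2 : e.symm u' = 1 := Subtype.ext h1
    have h3 := congrArg e h2
    rwa [e.apply_symm_apply, map_one] at h3
  have htrans : ∀ g ∈ N, ∀ h ∈ N, (∀ u ∈ U, g * u * g⁻¹ ∈ U → u = 1) →
      (∀ u ∈ U, h * u * h⁻¹ ∈ U → u = 1) → ∃ u ∈ U, ∃ u' ∈ U, g = u * h * u' := by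
    intro g hg h hh hgo hho
    obtain ⟨u, hu, u', hu', huu⟩ := double_coset_of_opp (e ⟨g, hg⟩) (e ⟨h, hh⟩)
      (hopp g hg hgo) (hopp h hh hho)
    refine ⟨(e.symm u : G), (hmem _).mpr ⟨e.symm u, by rw [e.apply_symm_apply]; exact hu, rfl⟩,
      (e.symm u' : G), (hmem _).mpr ⟨e.symm u', by rw [e.apply_symm_apply]; exact hu', rfl⟩, ?_⟩
    have h1 : (⟨g, hg⟩ : N) = e.symm u * ⟨h, hh⟩ * e.symm u' := by
      apply e.injective
      rw [map_mul, map_mul, e.apply_symm_apply, e.apply_symm_apply]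
      exact huu
    exact congrArg (fun z : N => (z : G)) h1
  -- a Sylow 2-subgroup containing `U`
  obtain ⟨Q, hQ⟩ := hU2.exists_le_sylow
  obtain ⟨c, hc⟩ := MulAction.exists_smul_eq G H Q
  have hcQ : ∀ y : G, y ∈ (Q : Subgroup G) ↔ c⁻¹ * y * c ∈ (H : Subgroup G) := by
    intro y
    rw [← hc, Sylow.coe_subgroup_smul, mem_conj_smul]
  obtain ⟨y, hy1, hyQ, hyx⟩ := sylow_meet_of_le N hidx U hUN hnorm htrans Q hQ (c * x * c⁻¹)
  intro hbot
  apply hy1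
  have h1 : c⁻¹ * y * c ∈ (H : Subgroup G) ⊓ MulAut.conj x • (H : Subgroup G) := by
    refine Subgroup.mem_inf.mpr ⟨(hcQ y).mp hyQ, ?_⟩
    rw [mem_conj_smul]
    have h2 := (hcQ _).mp hyx
    have e1 : c⁻¹ * ((c * x * c⁻¹)⁻¹ * y * (c * x * c⁻¹)) * c = x⁻¹ * (c⁻¹ * y * c) * x := by group
    rwa [e1] at h2
  rw [hbot, Subgroup.mem_bot] at h1
  have : y = c * (c⁻¹ * y * c) * c⁻¹ := by group
  rw [this, h1]; group

end Cfsg.Agent.Lib.Helper5.SylMeet
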